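import Mathlib
import Cfsg.Agent.FrobComp.SylowStructure
import Cfsg.Agent.TwoGroupsQ.UniqueInvolution

/-!
Facts on finite groups with a free action and on generalised quaternion groups.
-/

set_option autoImplicit false

namespace CfsgLib.ZassComp

open CfsgLib.FrobComp

variable {H : Type*} [Group H] [Finite H] {M : Type*} [AddCommGroup M] [Finite M] [Nontrivial M]

/-- An element of prime order normalising a subgroup of another prime order centralises it. -/
theorem commute_of_free {ρ : H →* AddMonoid.End M} (hρ : IsFree ρ) {p q : ℕ} [hp : Fact p.Prime]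
    [hq : Fact q.Prime] {x y : H} (hx : orderOf x = p) (hy : orderOf y = q)
    (hn : x * y * x⁻¹ ∈ Subgroup.zpowers y) : Commute x y := by
  by_contra hxy
  obtain ⟨v, hv⟩ := exists_ne (0 : M)
  have hN : ∀ i : ℕ, ∀ w ∈ Subgroup.zpowers y, x ^ i * w * (x ^ i)⁻¹ ∈ Subgroup.zpowers y := by
    intro i
    induction i with
    | zero => intro w hw; simpa using hw
    | succ i ih =>
      intro w hw
      rw [pow_succ, show x ^ i * x * w * (x ^ i * x)⁻¹ = x ^ i * (x * w * x⁻¹) * (x ^ i)⁻¹ by group]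
      refine ih _ ?_
      obtain ⟨k, rfl⟩ := Subgroup.mem_zpowers_iff.1 hw
      rw [← conj_zpow]
      exact zpow_mem hn k
  have hz : ∀ i : ℕ, 0 < i → i < p → ∃ z, z ≠ 1 ∧ orderOf z = q ∧
      ∀ j : ℕ, (x ^ i)⁻¹ * (y ^ j * x ^ i * (y ^ j)⁻¹) = z ^ j := by
    intro i hi hip
    have hinv : (x ^ i)⁻¹ = x ^ (p - i) := inv_eq_of_mul_eq_one_right (by
      rw [← pow_add, Nat.add_sub_cancel' hip.le, ← hx, pow_orderOf_eq_one])
    set w := (x ^ i)⁻¹ * y * x ^ i with hw
    have hwmem : w ∈ Subgroup.zpowers y := by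
      have := hN (p - i) y (Subgroup.mem_zpowers y)
      rwa [← hinv, inv_inv] at this
    have hwy : Commute w y := by
      obtain ⟨k, hk⟩ := Subgroup.mem_zpowers_iff.1 hwmem
      rw [← hk]
      exact (Commute.refl y).zpow_left k
    set z := w * y⁻¹ with hzdef
    have hz1 : z ≠ 1 := by
      intro h
      rw [hzdef, mul_inv_eq_one, hw] at h
      have hc : Commute (x ^ i) y := by
        show x ^ i * y = y * x ^ i
        calc x ^ i * y = x ^ i * ((x ^ i)⁻¹ * y * x ^ i) := by rw [h]
          _ = _ := by group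
      have hcop : (orderOf x).Coprime i := by
        rw [hx, hp.out.coprime_iff_not_dvd]
        exact fun h' => absurd (Nat.le_of_dvd hi h') (by omega)
      obtain ⟨a, ha⟩ := exists_pow_eq_self_of_coprime hcop.symm
      exact hxy (ha ▸ hc.pow_left a)
    refine ⟨z, hz1, ?_, fun j => ?_⟩
    · have hzmem : z ∈ Subgroup.zpowers y := mul_mem hwmem (inv_mem (Subgroup.mem_zpowers y))
      refine orderOf_eq_prime ?_ hz1
      obtain ⟨k, hk⟩ := Subgroup.mem_zpowers_iff.1 hzmem
      have hyq : y ^ q = 1 := by rw [← hy, pow_orderOf_eq_one]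
      rw [← hk, ← zpow_natCast, ← zpow_mul, mul_comm, zpow_mul, zpow_natCast, hyq, one_zpow]
    · rw [hzdef, hwy.inv_right.mul_pow, hw, inv_pow]
      have : ((x ^ i)⁻¹ * y * x ^ i) ^ j = (x ^ i)⁻¹ * y ^ j * x ^ i := by
        have := conj_pow (i := j) (a := (x ^ i)⁻¹) (b := y)
        rwa [inv_inv] at this
      rw [this]; group
  have hord : ∀ h : H, orderOf h = p → ∑ i ∈ Finset.range p, ρ (h ^ i) v = 0 := fun h hh => by
    have h1 : h ≠ 1 := fun e => hp.out.ne_one (by rw [← hh, e, orderOf_one])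
    have := sum_pow_apply_eq_zero_of_free hρ h1 v
    rwa [hh] at this
  have hkey : ∑ j ∈ Finset.range q, ∑ i ∈ Finset.range p, ρ ((y ^ j * x * (y ^ j)⁻¹) ^ i) v = 0 :=
    Finset.sum_eq_zero fun j _ => hord _ (by
      have := MulEquiv.orderOf_eq (MulAut.conj (y ^ j)) x
      rw [MulAut.conj_apply] at this
      rw [this, hx])
  rw [Finset.sum_comm] at hkey
  rw [Finset.sum_eq_single 0 ?_ (fun h => absurd (Finset.mem_range.mpr hp.out.pos) h)] at hkey
  · simp only [pow_zero, map_one, Finset.sum_const, Finset.card_range] at hkey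
    exact hv (nsmul_orderOf_injective hρ (hy ▸ orderOf_dvd_natCard y) hkey)
  · intro i hi hi0
    obtain ⟨z, hz1, hzq, hzj⟩ := hz i (Nat.pos_of_ne_zero hi0) (Finset.mem_range.1 hi)
    have : ∀ j, ρ ((y ^ j * x * (y ^ j)⁻¹) ^ i) v = ρ (x ^ i) (ρ (z ^ j) v) := fun j => by
      rw [conj_pow, show y ^ j * x ^ i * (y ^ j)⁻¹ = x ^ i * z ^ j by rw [← hzj, mul_inv_cancel_left],
        map_mul]
      rfl
    rw [Finset.sum_congr rfl fun j _ => this j, ← map_sum]
    have h0 := sum_pow_apply_eq_zero_of_free hρ hz1 v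
    rw [hzq] at h0
    rw [h0, map_zero]

theorem hasUniqueOrderP_of_free {ρ : H →* AddMonoid.End M} (hρ : IsFree ρ) {p : ℕ} [Fact p.Prime]
    {P : Subgroup H} (hP : IsPGroup p P) : CfsgLib.TwoGroupsQ.HasUniqueOrderP P p :=
  fun x y hx hy hy1 => uniqueOrderP_of_free hρ hP y x hy hx hy1

section Quaternion
open QuaternionGroup

variable {n : ℕ} [NeZero n]

theorem isCyclic_of_no_xa (K : Subgroup (QuaternionGroup n)) (h : ∀ i, xa i ∉ K) : IsCyclic K := by
  have hle : K ≤ Subgroup.zpowers (a 1) := by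
    intro g hg
    cases g with
    | a i => exact Subgroup.mem_zpowers_iff.2 ⟨(i.val : ℤ),
        by rw [zpow_natCast, a_one_pow, ZMod.natCast_zmod_val]⟩
    | xa i => exact absurd hg (h i)
  exact isCyclic_of_injective (Subgroup.inclusion hle) (Subgroup.inclusion_injective hle)

theorem two_pow_dvd_of_commute {i k : ZMod (2 * n)}
    (h : Commute (a k : QuaternionGroup n) (xa i)) : k + k = 0 := by
  have h' := h.eq
  rw [a_mul_xa, xa_mul_a, xa.injEq] at h'
  linear_combination -h'

/-- A subgroup commuting elementwise with a non-cyclic subgroup of order at least 8 is cyclic. -/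
theorem isCyclic_of_commute (K L : Subgroup (QuaternionGroup n)) (hK : ¬ IsCyclic K)
    (hcard : 8 ≤ Nat.card K) (h : ∀ k ∈ K, ∀ l ∈ L, Commute k l) : IsCyclic L := by
  refine isCyclic_of_no_xa L fun j hj => ?_
  have hk : ∃ i, xa i ∈ K := by
    by_contra hne
    push Not at hne
    exact hK (isCyclic_of_no_xa K hne)
  obtain ⟨i, hi⟩ := hk
  -- rotations in `K` are involutions or trivial
  have hrot : ∀ k, a k ∈ K → k + k = 0 := fun k hk => two_pow_dvd_of_commute (h _ hk _ hj)
  have hsub : ∀ k : ZMod (2 * n), k + k = 0 → k = 0 ∨ k = (n : ZMod (2 * n)) := by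
    intro k hk
    have hd : 2 * n ∣ k.val + k.val := by
      rw [← ZMod.natCast_eq_zero_iff]
      push_cast
      rwa [ZMod.natCast_zmod_val]
    have hlt := k.val_lt
    obtain ⟨c, hc⟩ := hd
    have hc2 : c = 0 ∨ c = 1 := by
      by_contra hne
      push Not at hne
      have : 2 ≤ c := by omega
      nlinarith
    rcases hc2 with rfl | rfl
    · left; rw [← ZMod.natCast_zmod_val k, show k.val = 0 by omega, Nat.cast_zero]
    · right; rw [← ZMod.natCast_zmod_val k, show k.val = n by omega]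
  classical
  have hle : (K : Set (QuaternionGroup n)) ⊆
      (({a 0, a (n : ZMod (2 * n)), xa i, xa (i + (n : ZMod (2 * n)))} : Finset (QuaternionGroup n)) :
        Set (QuaternionGroup n)) := by
    intro g hg
    simp only [Finset.coe_insert, Finset.coe_singleton, Set.mem_insert_iff, Set.mem_singleton_iff]
    cases g with
    | a k => rcases hsub k (hrot k hg) with rfl | rfl <;> simp
    | xa k =>
      have := hrot _ (xa_mul_xa i k ▸ mul_mem hi hg)
      have hn2 : (n : ZMod (2 * n)) + (n : ZMod (2 * n)) = 0 := by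
        rw [← Nat.cast_add, ← two_mul, ZMod.natCast_self]
      have h2 : (k - i) + (k - i) = 0 := by linear_combination this - hn2
      rcases hsub _ h2 with e | e
      · exact Or.inr (Or.inr (Or.inl (by rw [sub_eq_zero.1 e])))
      · exact Or.inr (Or.inr (Or.inr (by rw [← e]; congr 1; ring)))
  have := (Set.ncard_le_ncard hle (Finset.finite_toSet _)).trans_eq (Set.ncard_coe_finset _)
  rw [← Nat.card_coe_set_eq] at this
  have h4 := this.trans Finset.card_le_four
  simp only [SetLike.coe_sort_coe] at h4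
  omega

theorem commutator_eq : (xa 0 * a 1 * (xa 0)⁻¹ * (a 1)⁻¹ : QuaternionGroup n) = a (-2) := by
  rw [show (xa 0 * a 1 : QuaternionGroup n) = a (-1) * xa 0 by
    rw [xa_mul_a, a_mul_xa]; congr 1; ring, mul_inv_cancel_right]
  rw [show (a 1 : QuaternionGroup n)⁻¹ = a (-1) from rfl, a_mul_a]
  congr 1; ring

theorem orderOf_a_two : orderOf (a (-2) : QuaternionGroup n) = n := by
  have : (a (-2) : QuaternionGroup n) = (a 1 ^ 2)⁻¹ := by
    rw [a_one_pow]
    show a (-2) = a (-((2 : ℕ) : ZMod (2 * n)))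
    push_cast; rfl
  rw [this, orderOf_inv, orderOf_pow_of_dvd (by norm_num) ?_, orderOf_a_one,
    Nat.mul_div_cancel_left _ (by norm_num)]
  rw [orderOf_a_one]; exact dvd_mul_right 2 n

end Quaternion

/-- An automorphism of odd order of a generalised quaternion group of order at least 16 is trivial. -/
theorem aut_quaternion_odd {m r : ℕ} (hm : 2 ≤ m) (hr : Odd r)
    (σ : MulAut (QuaternionGroup (2 ^ m))) (hσ : σ ^ r = 1) : σ = 1 := by
  have hp2 : Nat.Coprime r 2 := Nat.coprime_two_right.2 hr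
  have hr0 : r ≠ 0 := hr.pos.ne'
  haveI : NeZero (2 ^ m) := ⟨by positivity⟩
  haveI : NeZero (2 * 2 ^ m) := ⟨by positivity⟩
  have h4 : 4 ≤ 2 ^ m := by
    calc (4 : ℕ) = 2 ^ 2 := rfl
      _ ≤ 2 ^ m := Nat.pow_le_pow_right two_pos hm
  have hoa : orderOf (σ (QuaternionGroup.a 1)) = 2 * 2 ^ m := by
    rw [MulEquiv.orderOf_eq, QuaternionGroup.orderOf_a_one]
  obtain ⟨i, hi⟩ : ∃ i, σ (QuaternionGroup.a 1) = QuaternionGroup.a i := by
    rcases hx : σ (QuaternionGroup.a 1) with i | i
    · exact ⟨i, rfl⟩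
    · rw [hx, QuaternionGroup.orderOf_xa] at hoa
      omega
  have hak : ∀ k : ZMod (2 * 2 ^ m), σ (QuaternionGroup.a k) = QuaternionGroup.a (k * i) := by
    intro k
    have e1 : ∀ (n : ℕ) (j : ZMod (2 * 2 ^ m)),
        (QuaternionGroup.a j : QuaternionGroup (2 ^ m)) ^ n = QuaternionGroup.a ((n : ZMod (2 * 2 ^ m)) * j) := by
      intro n j
      induction n with
      | zero => simp
      | succ n ih => rw [pow_succ, ih, QuaternionGroup.a_mul_a]; congr 1; push_cast; ring
    conv_lhs => rw [← ZMod.natCast_zmod_val k, ← QuaternionGroup.a_one_pow, map_pow, hi, e1,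
      ZMod.natCast_zmod_val]
  have hit : ∀ t : ℕ, (σ ^ t) (QuaternionGroup.a 1) = QuaternionGroup.a (i ^ t) := by
    intro t
    induction t with
    | zero => simp
    | succ t ih =>
      rw [pow_succ' σ, MulAut.mul_apply, ih, hak, ← pow_succ]
  have hi1 : i = 1 := by
    have h1 := hit (r)
    rw [hσ, MulAut.one_apply, QuaternionGroup.a.injEq] at h1
    let u : (ZMod (2 * 2 ^ m))ˣ := IsUnit.unit
      (IsUnit.of_pow_eq_one h1.symm hr0)
    have hu : u ^ r = 1 := by
      refine Units.ext ?_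
      rw [Units.val_pow_eq_pow_val, IsUnit.unit_spec, ← h1, Units.val_one]
    have h2 : orderOf u = 1 := by
      refine Nat.eq_one_of_dvd_coprimes (hp2.pow_right m) (orderOf_dvd_of_pow_eq_one hu) ?_
      refine orderOf_dvd_natCard u |>.trans (dvd_of_eq ?_)
      rw [Nat.card_eq_fintype_card, ZMod.card_units_eq_totient, ← pow_succ',
        Nat.totient_prime_pow_succ Nat.prime_two]
      ring
    have h3 := congrArg Units.val (orderOf_eq_one_iff.1 h2)
    rwa [IsUnit.unit_spec] at h3
  have hfixa : ∀ k, σ (QuaternionGroup.a k) = QuaternionGroup.a k := fun k => by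
    rw [hak, hi1, mul_one]
  obtain ⟨j, hj⟩ : ∃ j, σ (QuaternionGroup.xa 0) = QuaternionGroup.xa j := by
    rcases hx : σ (QuaternionGroup.xa 0) with j | j
    · rw [← hfixa j] at hx
      exact absurd (σ.injective hx) (by simp)
    · exact ⟨j, rfl⟩
  have hxa : ∀ k, σ (QuaternionGroup.xa k) = QuaternionGroup.xa (j + k) := by
    intro k
    conv_lhs => rw [show QuaternionGroup.xa k = QuaternionGroup.xa 0 * QuaternionGroup.a k by simp,
      map_mul, hj, hfixa, QuaternionGroup.xa_mul_a]
  have hjt : ∀ t : ℕ, (σ ^ t) (QuaternionGroup.xa 0) = QuaternionGroup.xa ((t : ZMod (2 * 2 ^ m)) * j) := by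
    intro t
    induction t with
    | zero => simp
    | succ t ih => rw [pow_succ' σ, MulAut.mul_apply, ih, hxa]; congr 1; push_cast; ring
  have hj0 : j = 0 := by
    have h1 := hjt (r)
    rw [hσ, MulAut.one_apply, QuaternionGroup.xa.injEq] at h1
    have hu : IsUnit ((r : ℕ) : ZMod (2 * 2 ^ m)) := by
      rw [ZMod.isUnit_iff_coprime, ← pow_succ']
      exact hp2.pow_right _
    exact (hu.mul_right_eq_zero).1 h1.symm
  refine MulEquiv.ext fun x => ?_
  cases x with
  | a k => rw [hfixa]; rfl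
  | xa k => rw [hxa, hj0, zero_add]; rfl


end CfsgLib.ZassComp
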