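import Cfsg.Agent.S3358.ZGroup
import Cfsg.Agent.S3742
import Cfsg.Agent.Solvable.Fitting

/-!
A solvable group acting freely has a normal subgroup with cyclic Sylow subgroups and quotient
inside the symmetric group of degree four.
-/

set_option autoImplicit false

namespace CfsgLib.ZassComp

open CfsgLib.FrobComp CfsgLib.TwoGroupsQ

variable {G : Type*} [Group G] [Finite G] {M : Type*} [AddCommGroup M] [Finite M] [Nontrivial M]
  {ρ : G →* AddMonoid.End M}

theorem exists_embed_four {A : Type*} [Group A] [Finite A] (h : Nat.card A ≤ 4) :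
    ∃ f : A →* Equiv.Perm (Fin 4), Function.Injective f := by
  let ι : A ↪ Fin 4 := ((Finite.equivFin A).toEmbedding).trans (Fin.castLEEmb h)
  refine ⟨(Equiv.Perm.viaEmbeddingHom ι).comp (MulAction.toPermHom A A), ?_⟩
  exact (Equiv.Perm.viaEmbeddingHom_injective ι).comp MulAction.toPerm_injective

/-- A normal subgroup whose trace on a Sylow 2-subgroup is cyclic has cyclic Sylow subgroups. -/
theorem isZGroup_of_inf_sylow (hρ : IsFree ρ) (S : Sylow 2 G) (N : Subgroup G) [hN : N.Normal]
    (h : IsCyclic (N ⊓ (S : Subgroup G) : Subgroup G)) : IsZGroup N := by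
  refine ⟨fun p hp P => ?_⟩
  haveI := Fact.mk hp
  have hinj : Function.Injective ((P : Subgroup N).equivMapOfInjective N.subtype N.subtype_injective) :=
    MulEquiv.injective _
  suffices hc : IsCyclic ((P : Subgroup N).map N.subtype) from
    isCyclic_of_injective (((P : Subgroup N).equivMapOfInjective N.subtype N.subtype_injective).toMonoidHom) hinj
  have hP : IsPGroup p ((P : Subgroup N).map N.subtype) := P.2.map _
  by_cases hp2 : p = 2
  · subst hp2
    obtain ⟨S', hS'⟩ := hP.exists_le_sylow
    obtain ⟨g, hg⟩ := MulAction.exists_smul_eq G S' S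
    have hle : ((P : Subgroup N).map N.subtype).map (MulAut.conj g).toMonoidHom ≤
        N ⊓ (S : Subgroup G) := by
      rintro _ ⟨a, ha, rfl⟩
      refine ⟨?_, ?_⟩
      · obtain ⟨b, -, rfl⟩ := ha
        exact hN.conj_mem _ b.2 g
      · show MulAut.conj g a ∈ (S : Subgroup G)
        rw [← hg]
        exact Subgroup.smul_mem_pointwise_smul a (MulAut.conj g) _ (hS' ha)
    haveI : IsCyclic (((P : Subgroup N).map N.subtype).map (MulAut.conj g).toMonoidHom) :=
      isCyclic_of_injective (Subgroup.inclusion hle) (Subgroup.inclusion_injective hle)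
    exact isCyclic_of_injective
      (((P : Subgroup N).map N.subtype).equivMapOfInjective (MulAut.conj g).toMonoidHom
        (MulAut.conj g).injective).toMonoidHom (MulEquiv.injective _)
  · exact isCyclic_of_free_of_odd hρ hp2 hP

/-- A normal subgroup with a `2`-group quotient is supplemented by a Sylow 2-subgroup. -/
theorem surjective_of_two_quotient (S : Sylow 2 G) (N : Subgroup G) [N.Normal]
    (h : IsPGroup 2 (G ⧸ N)) :
    Function.Surjective ((QuotientGroup.mk' N).comp (S : Subgroup G).subtype) := by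
  have e := S.mapSurjective (QuotientGroup.mk'_surjective N)
  have htop : ((S.mapSurjective (QuotientGroup.mk'_surjective N) : Sylow 2 (G ⧸ N)) :
      Subgroup (G ⧸ N)) = ⊤ := by
    have := (S.mapSurjective (QuotientGroup.mk'_surjective N)).3
      (h.to_subgroup ⊤) le_top
    exact this.symm
  intro q
  have hq : q ∈ ((S.mapSurjective (QuotientGroup.mk'_surjective N) : Sylow 2 (G ⧸ N)) :
      Subgroup (G ⧸ N)) := htop ▸ Subgroup.mem_top q
  rw [Sylow.coe_mapSurjective] at hq
  obtain ⟨s, hs, rfl⟩ := hq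
  exact ⟨⟨s, hs⟩, rfl⟩

theorem card_quotient_eq (S : Sylow 2 G) (N : Subgroup G) [N.Normal] (h : IsPGroup 2 (G ⧸ N)) :
    Nat.card (G ⧸ N) * Nat.card (N ⊓ (S : Subgroup G) : Subgroup G) = Nat.card S := by
  set φ := (QuotientGroup.mk' N).comp (S : Subgroup G).subtype with hφ
  have hk := Subgroup.card_mul_index φ.ker
  have hker : φ.ker = N.subgroupOf (S : Subgroup G) := by
    ext g; simp [hφ, Subgroup.mem_subgroupOf]
  rw [Subgroup.index_ker, MonoidHom.range_eq_top.2 (surjective_of_two_quotient S N h),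
    Subgroup.card_top, hker] at hk
  rw [← hk, mul_comm]
  congr 1
  rw [← Subgroup.inf_subgroupOf_right N, Nat.card_congr
    (Subgroup.subgroupOfEquivOfLe (inf_le_right : N ⊓ (S : Subgroup G) ≤ _)).toEquiv]

theorem pow_two_part_mem {N : Subgroup G} [N.Normal] (h : ∀ g : G, Odd (orderOf g) → g ∈ N) :
    IsPGroup 2 (G ⧸ N) := by
  intro q
  obtain ⟨g, rfl⟩ := QuotientGroup.mk_surjective q
  obtain ⟨k, r, hr, hgr⟩ := Nat.exists_eq_two_pow_mul_odd (orderOf_pos g).ne'
  refine ⟨k, ?_⟩
  rw [← QuotientGroup.mk_pow, QuotientGroup.eq_one_iff]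
  refine h _ ?_
  rw [orderOf_pow, Nat.gcd_eq_right ⟨r, hgr⟩, hgr, Nat.mul_div_cancel_left _ (by positivity)]
  exact hr

/-- The normal subgroup with small quotient. -/
theorem exists_normal_zgroup (hρ : IsFree ρ) [Group.IsSolvable G] :
    ∃ (G₀ : Subgroup G) (_ : G₀.Normal), IsZGroup G₀ ∧
      ∃ f : G →* Equiv.Perm (Fin 4), f.ker = G₀ := by
  haveI : Fact (Nat.Prime 2) := ⟨Nat.prime_two⟩
  obtain ⟨S⟩ : Nonempty (Sylow 2 G) := Sylow.nonempty
  have small : ∀ (N : Subgroup G) [N.Normal], IsCyclic (N ⊓ (S : Subgroup G) : Subgroup G) →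
      Nat.card (G ⧸ N) ≤ 4 → ∃ (G₀ : Subgroup G) (_ : G₀.Normal), IsZGroup G₀ ∧
        ∃ f : G →* Equiv.Perm (Fin 4), f.ker = G₀ := by
    intro N hN hc h4
    obtain ⟨f, hf⟩ := exists_embed_four h4
    refine ⟨N, hN, isZGroup_of_inf_sylow hρ S N hc, f.comp (QuotientGroup.mk' N), ?_⟩
    rw [← MonoidHom.comap_ker, f.ker_eq_bot_iff.2 hf, MonoidHom.comap_bot, QuotientGroup.ker_mk']
  rcases isCyclic_or_quaternion S.2 (hasUniqueOrderP_of_free hρ S.2) with hS | ⟨-, m, hm, ⟨eS⟩⟩
  · refine small ⊤ ?_ ?_
    · exact isCyclic_of_injective (Subgroup.inclusion (inf_le_right : ⊤ ⊓ (S : Subgroup G) ≤ _))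
        (Subgroup.inclusion_injective _)
    · rw [show Nat.card (G ⧸ (⊤ : Subgroup G)) = (⊤ : Subgroup G).index from rfl,
        Subgroup.index_top]
      norm_num
  haveI : NeZero (2 ^ m) := ⟨by positivity⟩
  have hScard : Nat.card S = 4 * 2 ^ m := by
    rw [Nat.card_congr eS.toEquiv, Nat.card_eq_fintype_card, QuaternionGroup.card]
  set Q := Cfsg.pCore 2 G with hQ
  haveI hQn : Q.Normal := CfsgLib.Solvable.pCore_normal 2
  have hQS : Q ≤ (S : Subgroup G) := CfsgLib.Solvable.pCore_le_sylow S
  have hQ2 : IsPGroup 2 Q := CfsgLib.Solvable.isPGroup_pCore 2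
  rcases isCyclic_or_quaternion hQ2 (hasUniqueOrderP_of_free hρ hQ2) with hQc | ⟨-, k, hk, ⟨eQ⟩⟩
  · -- cyclic Fitting subgroup
    set F := Cfsg.fittingSubgroup G with hF
    haveI hFn : F.Normal := CfsgLib.Solvable.fittingSubgroup_normal
    haveI hFnil : Group.IsNilpotent F := CfsgLib.Solvable.fittingSubgroup_isNilpotent
    have hFQ : ∀ A : Subgroup G, A ≤ F → IsPGroup 2 A → A ≤ Q := by
      intro A hA hA2
      obtain ⟨P, hP⟩ := (hA2.comap_of_injective F.subtype F.subtype_injective).exists_le_sylow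
      haveI : (P : Subgroup F).Normal := (Group.isNilpotent_of_finite_tfae.out 0 3 rfl rfl).mp hFnil 2 inferInstance P
      haveI : (P : Subgroup F).Characteristic := P.characteristic_of_normal inferInstance
      haveI : ((P : Subgroup F).map F.subtype).Normal :=
        ConjAct.normal_of_characteristic_of_normal
      refine le_trans ?_ (CfsgLib.Solvable.le_pCore (P.2.map F.subtype))
      intro a ha
      exact ⟨⟨a, hA ha⟩, hP ha, rfl⟩
    haveI : IsCyclic (F ⊓ (S : Subgroup G) : Subgroup G) := by
      have hle : F ⊓ (S : Subgroup G) ≤ Q := hFQ _ inf_le_left (S.2.to_le inf_le_right)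
      exact isCyclic_of_injective (Subgroup.inclusion hle) (Subgroup.inclusion_injective hle)
    haveI hFz : IsZGroup F := isZGroup_of_inf_sylow hρ S F inferInstance
    haveI hFc : IsCyclic F := inferInstance
    have hCF : Subgroup.centralizer (F : Set G) ≤ F :=
      CfsgLib.Solvable.centralizer_fittingSubgroup_le
    let c : G →* MulAut F := MulAut.conjNormal
    have hker : c.ker ≤ F := fun g hg => hCF (by
      rw [Subgroup.mem_centralizer_iff]
      intro a ha
      have h1 : (c g) ⟨a, ha⟩ = ⟨a, ha⟩ := by rw [show c g = 1 from hg]; rfl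
      have h2 : g * a * g⁻¹ = a := congrArg Subtype.val h1
      calc a * g = (g * a * g⁻¹) * g := by rw [h2]
        _ = g * a := by group)
    have hcomm : ∀ a b : G, a * b * a⁻¹ * b⁻¹ ∈ F := fun a b => hker (by
      rw [MonoidHom.mem_ker, map_mul, map_mul, map_mul, map_inv, map_inv]
      let e := IsCyclic.mulAutMulEquiv F
      apply e.injective
      rw [map_mul, map_mul, map_mul, map_inv, map_inv, map_one, mul_comm (e (c a)) (e (c b)),
        mul_inv_cancel_right, mul_inv_cancel])
    -- the odd part of `G / F`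
    obtain ⟨v, o, ho, hvo⟩ := Nat.exists_eq_two_pow_mul_odd
      (Nat.card_pos (α := G ⧸ F)).ne'
    have hcommQ : ∀ a b : G ⧸ F, Commute a b := by
      intro a b
      obtain ⟨a, rfl⟩ := QuotientGroup.mk_surjective a
      obtain ⟨b, rfl⟩ := QuotientGroup.mk_surjective b
      have h := (QuotientGroup.eq_one_iff (N := F) _).2 (hcomm a b)
      rw [QuotientGroup.mk_mul, QuotientGroup.mk_mul, QuotientGroup.mk_mul, QuotientGroup.mk_inv,
        QuotientGroup.mk_inv, mul_inv_eq_one, mul_inv_eq_iff_eq_mul] at h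
      exact h
    let π : G →* G ⧸ F := MonoidHom.mk' (fun g => (g : G ⧸ F) ^ o) (fun a b => by
      show ((a * b : G) : G ⧸ F) ^ o = _
      rw [QuotientGroup.mk_mul, (hcommQ _ _).mul_pow])
    have hFπ : F ≤ π.ker := fun g hg => by
      show (g : G ⧸ F) ^ o = 1
      rw [(QuotientGroup.eq_one_iff g).2 hg, one_pow]
    have hodd : ∀ g : G, Odd (orderOf g) → g ∈ π.ker := by
      intro g hg
      show (g : G ⧸ F) ^ o = 1
      have h1 : orderOf (g : G ⧸ F) ∣ orderOf g := orderOf_map_dvd (QuotientGroup.mk' F) g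
      have h2 : orderOf (g : G ⧸ F) ∣ 2 ^ v * o := hvo ▸ orderOf_dvd_natCard _
      refine orderOf_dvd_iff_pow_eq_one.1 ((Nat.Coprime.dvd_mul_left ?_).1 h2)
      exact ((Nat.coprime_two_right.2 hg).pow_right v).coprime_dvd_left h1
    have hinf : π.ker ⊓ (S : Subgroup G) ≤ Q := by
      refine hFQ _ (fun g hg => ?_) (S.2.to_le inf_le_right)
      have h1 : (g : G ⧸ F) ^ o = 1 := hg.1
      obtain ⟨j, hj⟩ := S.2 ⟨g, hg.2⟩
      have h2 : (g : G ⧸ F) ^ 2 ^ j = 1 := by
        have := congrArg Subtype.val hj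
        simp only [SubmonoidClass.coe_pow, OneMemClass.coe_one] at this
        rw [← QuotientGroup.mk_pow, this, QuotientGroup.mk_one]
      have := pow_gcd_eq_one.2 ⟨h1, h2⟩
      rw [((Nat.coprime_two_right.2 ho).pow_right j).gcd_eq_one, pow_one] at this
      exact (QuotientGroup.eq_one_iff g).1 this
    have hcyc : IsCyclic (π.ker ⊓ (S : Subgroup G) : Subgroup G) :=
      isCyclic_of_injective (Subgroup.inclusion hinf) (Subgroup.inclusion_injective hinf)
    refine small π.ker hcyc ?_
    have hcard := card_quotient_eq S π.ker (pow_two_part_mem hodd)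
    rw [hScard] at hcard
    set u : QuaternionGroup (2 ^ m) := QuaternionGroup.a (-2) with hu
    have hmem : ((eS.symm u : S) : G) ∈ π.ker ⊓ (S : Subgroup G) := by
      refine ⟨hFπ ?_, (eS.symm u).2⟩
      rw [hu, ← commutator_eq, map_mul, map_mul, map_mul, map_inv, map_inv]
      exact hcomm _ _
    have hn : 2 ^ m ≤ Nat.card (π.ker ⊓ (S : Subgroup G) : Subgroup G) := by
      refine le_trans (le_of_eq ?_) (Nat.le_of_dvd Nat.card_pos
        (Subgroup.card_dvd_of_le (Subgroup.zpowers_le.2 hmem)))
      rw [Nat.card_zpowers, Subgroup.orderOf_coe, MulEquiv.orderOf_eq, hu, orderOf_a_two]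
    by_contra hlt
    have : 5 * 2 ^ m ≤ 4 * 2 ^ m := by
      calc 5 * 2 ^ m ≤ Nat.card (G ⧸ π.ker) *
            Nat.card (π.ker ⊓ (S : Subgroup G) : Subgroup G) := Nat.mul_le_mul (by omega) hn
        _ = _ := hcard
    have : 0 < 2 ^ m := by positivity
    omega
  · -- quaternion `O₂(G)`
    haveI : NeZero (2 ^ k) := ⟨by positivity⟩
    let c : G →* MulAut Q := MulAut.conjNormal
    set C := c.ker with hC
    have hQcard : 8 ≤ Nat.card Q := by
      rw [Nat.card_congr eQ.toEquiv, Nat.card_eq_fintype_card, QuaternionGroup.card]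
      have := Nat.pow_le_pow_right (show 0 < 2 by norm_num) hk
      omega
    have hQnc : ¬ IsCyclic Q := by
      intro h
      haveI := h
      haveI : IsCyclic (QuaternionGroup (2 ^ k)) :=
        isCyclic_of_surjective eQ.toMonoidHom eQ.surjective
      have := IsCyclic.commGroup (α := QuaternionGroup (2 ^ k))
      have hcm : (QuaternionGroup.a 1 * QuaternionGroup.xa 0 : QuaternionGroup (2 ^ k)) =
          QuaternionGroup.xa 0 * QuaternionGroup.a 1 :=
        IsCyclic.isMulCommutative.is_comm.comm _ _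
      have h1 := two_pow_dvd_of_commute hcm
      have h2 : ((2 : ℕ) : ZMod (2 * 2 ^ k)) = 0 := by push_cast; linear_combination h1
      rw [ZMod.natCast_eq_zero_iff] at h2
      have := Nat.le_of_dvd (by norm_num) h2
      have := Nat.pow_le_pow_right (show 0 < 2 by norm_num) hk
      omega
    have hCQ : ∀ g ∈ C, ∀ q ∈ Q, Commute q g := by
      intro g hg q hq
      have h1 : (c g) ⟨q, hq⟩ = ⟨q, hq⟩ := by rw [show c g = 1 from hg]; rfl
      have h2 : g * q * g⁻¹ = q := congrArg Subtype.val h1
      show q * g = g * q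
      calc q * g = (g * q * g⁻¹) * g := by rw [h2]
        _ = g * q := by group
    have hCc : IsCyclic (C ⊓ (S : Subgroup G) : Subgroup G) := by
      let K : Subgroup (QuaternionGroup (2 ^ m)) :=
        (Q.subgroupOf (S : Subgroup G)).map eS.toMonoidHom
      let L : Subgroup (QuaternionGroup (2 ^ m)) :=
        ((C ⊓ (S : Subgroup G)).subgroupOf (S : Subgroup G)).map eS.toMonoidHom
      let eK : K ≃* Q := ((Q.subgroupOf (S : Subgroup G)).equivMapOfInjective eS.toMonoidHom
        eS.injective).symm.trans (Subgroup.subgroupOfEquivOfLe hQS)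
      let eL : L ≃* (C ⊓ (S : Subgroup G) : Subgroup G) :=
        (((C ⊓ (S : Subgroup G)).subgroupOf (S : Subgroup G)).equivMapOfInjective eS.toMonoidHom
          eS.injective).symm.trans (Subgroup.subgroupOfEquivOfLe inf_le_right)
      haveI : IsCyclic L := by
        refine isCyclic_of_commute K L ?_ ?_ ?_
        · intro h
          haveI := h
          exact hQnc (isCyclic_of_surjective eK.toMonoidHom eK.surjective)
        · rw [Nat.card_congr eK.toEquiv]; exact hQcard
        · rintro _ ⟨q, hq, rfl⟩ _ ⟨l, hl, rfl⟩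
          have : Commute q l := Subtype.ext (hCQ _ hl.1 _ hq).eq
          exact this.map eS.toMonoidHom
      exact isCyclic_of_surjective eL.toMonoidHom eL.surjective
    have hCz : IsZGroup C := isZGroup_of_inf_sylow hρ S C hCc
    rcases Nat.eq_or_lt_of_le hk with hk1 | hk2
    · -- `Q ≅ Q₈`
      subst hk1
      obtain ⟨a⟩ := Cfsg.Agent.S3742.result
      refine ⟨C, inferInstance, hCz, ((MulAut.congr eQ).trans a).toMonoidHom.comp c, ?_⟩
      rw [← MonoidHom.comap_ker]
      rw [(MonoidHom.ker_eq_bot_iff _).2 (((MulAut.congr eQ).trans a).injective), MonoidHom.comap_bot]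
    · -- larger: the odd elements centralise `Q`
      have hodd : ∀ g : G, Odd (orderOf g) → g ∈ C := by
        intro g hg
        have h1 : (MulAut.congr eQ (c g)) ^ orderOf g = 1 := by
          rw [← map_pow, ← map_pow, pow_orderOf_eq_one, map_one, map_one]
        have h2 := aut_quaternion_odd hk2 hg _ h1
        show c g = 1
        exact (MulAut.congr eQ).injective (h2.trans (map_one _).symm)
      set a₁ : S := eS.symm (QuaternionGroup.a 1) with ha₁
      set A := Subgroup.zpowers (a₁ : G) with hA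
      have hAcard : Nat.card A = 2 * 2 ^ m := by
        rw [hA, Nat.card_zpowers, Subgroup.orderOf_coe, ha₁, MulEquiv.orderOf_eq,
          QuaternionGroup.orderOf_a_one]
      have hAS : A ≤ (S : Subgroup G) := Subgroup.zpowers_le.2 a₁.2
      haveI : (A.subgroupOf (S : Subgroup G)).Normal := by
        refine Subgroup.normal_of_index_eq_two ?_
        have h := Subgroup.card_mul_index (A.subgroupOf (S : Subgroup G))
        rw [Nat.card_congr (Subgroup.subgroupOfEquivOfLe hAS).toEquiv, hAcard, hScard] at h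
        have : 0 < 2 ^ m := by positivity
        nlinarith
      have h2Q : IsPGroup 2 (G ⧸ C) := pow_two_part_mem hodd
      set φ := (QuotientGroup.mk' C).comp (S : Subgroup G).subtype with hφ
      have hφs : Function.Surjective φ := surjective_of_two_quotient S C h2Q
      set G₀ := ((A.subgroupOf (S : Subgroup G)).map φ).comap (QuotientGroup.mk' C) with hG₀
      haveI : ((A.subgroupOf (S : Subgroup G)).map φ).Normal :=
        Subgroup.Normal.map inferInstance _ hφs
      haveI hG₀n : G₀.Normal := inferInstance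
      have hCle : C ≤ G₀ := fun g hg => by
        rw [hG₀, Subgroup.mem_comap, QuotientGroup.mk'_apply, (QuotientGroup.eq_one_iff g).2 hg]
        exact one_mem _
      have hAle : A ≤ G₀ := fun g hg => ⟨⟨g, hAS hg⟩, hg, rfl⟩
      have hG₀S : G₀ ⊓ (S : Subgroup G) ≤ A := by
        rintro s ⟨⟨b, hb, hbs⟩, hs⟩
        have hCSA : C ⊓ (S : Subgroup G) ≤ A := by
          intro z hz
          have hcomm : ∀ q ∈ Q, Commute q z := fun q hq => hCQ z hz.1 q hq
          by_contra hzA
          obtain ⟨j, hj⟩ : ∃ j, eS ⟨z, hz.2⟩ = QuaternionGroup.xa j := by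
            rcases hj : eS ⟨z, hz.2⟩ with j | j
            · refine absurd ?_ hzA
              rw [hA, Subgroup.mem_zpowers_iff]
              refine ⟨(j.val : ℤ), ?_⟩
              rw [ha₁, zpow_natCast, ← SubmonoidClass.coe_pow, ← map_pow, QuaternionGroup.a_one_pow,
                ZMod.natCast_zmod_val, ← hj, MulEquiv.symm_apply_apply]
            · exact ⟨j, rfl⟩
          -- an element of order at least eight in `Q` is a rotation
          let q : Q := eQ.symm (QuaternionGroup.a 1)
          have hq : orderOf q = 2 * 2 ^ k := by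
            rw [MulEquiv.orderOf_eq, QuaternionGroup.orderOf_a_one]
          have hk4 : 4 ≤ 2 ^ k := by
            have := Nat.pow_le_pow_right (show 0 < 2 by norm_num) hk2
            omega
          have hqo : orderOf (eS ⟨q.1, hQS q.2⟩) = 2 * 2 ^ k := by
            rw [MulEquiv.orderOf_eq, ← Subgroup.orderOf_coe, ← hq, ← Subgroup.orderOf_coe]
          obtain ⟨i, hi⟩ : ∃ i, eS ⟨q.1, hQS q.2⟩ = QuaternionGroup.a i := by
            rcases hi : eS ⟨q.1, hQS q.2⟩ with i | i
            · exact ⟨i, rfl⟩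
            · rw [hi, QuaternionGroup.orderOf_xa] at hqo; omega
          have hc : Commute (eS ⟨q.1, hQS q.2⟩) (eS ⟨z, hz.2⟩) :=
            (show Commute (⟨q.1, hQS q.2⟩ : S) ⟨z, hz.2⟩ from Subtype.ext (hcomm _ q.2).eq).map
              eS.toMonoidHom
          rw [hi, hj] at hc
          have h2 := two_pow_dvd_of_commute hc
          rw [hi] at hqo
          have h3 : (QuaternionGroup.a i : QuaternionGroup (2 ^ m)) ^ 2 = 1 := by
            rw [pow_two, QuaternionGroup.a_mul_a, h2]; rfl
          have := Nat.le_of_dvd (by norm_num) (orderOf_dvd_of_pow_eq_one h3)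
          omega
        have h1 : (b : G)⁻¹ * s ∈ C := by
          rw [← QuotientGroup.eq]; exact hbs
        have h2 : (b : G)⁻¹ * s ∈ A := hCSA ⟨h1, Subgroup.mul_mem _ (Subgroup.inv_mem _ b.2) hs⟩
        have hbA : (b : G) ∈ A := hb
        simpa using mul_mem hbA h2
      have hcyc : IsCyclic (G₀ ⊓ (S : Subgroup G) : Subgroup G) :=
        isCyclic_of_injective (Subgroup.inclusion hG₀S) (Subgroup.inclusion_injective hG₀S)
      refine small G₀ hcyc ?_
      have hcard := card_quotient_eq S G₀ (pow_two_part_mem fun g hg => hCle (hodd g hg))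
      have hle : 2 * 2 ^ m ≤ Nat.card (G₀ ⊓ (S : Subgroup G) : Subgroup G) :=
        hAcard ▸ Subgroup.card_le_of_le (le_inf hAle hAS)
      rw [hScard] at hcard
      by_contra hlt
      have : 5 * (2 * 2 ^ m) ≤ 4 * 2 ^ m := by
        calc 5 * (2 * 2 ^ m) ≤ Nat.card (G ⧸ G₀) *
              Nat.card (G₀ ⊓ (S : Subgroup G) : Subgroup G) := Nat.mul_le_mul (by omega) hle
          _ = _ := hcard
      have : 0 < 2 ^ m := by positivity
      omega

end CfsgLib.ZassComp
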