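import Cfsg.Agent.S3358.Basic

/-!
The presentation of a group with cyclic Sylow subgroups acting freely.
-/

set_option autoImplicit false

namespace CfsgLib.ZassComp

open CfsgLib.FrobComp

theorem rad_dvd_of_div_dvd {n d : ℕ} (hn : 0 < n) (hd : d ∣ n)
    (h : ∀ p ∈ n.primeFactors, d ∣ n / p) : d ∣ n / ∏ p ∈ n.primeFactors, p := by
  have hd0 : d ≠ 0 := ne_zero_of_dvd_ne_zero hn.ne' hd
  have hrad : ∏ p ∈ n.primeFactors, p ∣ n := Nat.prod_primeFactors_dvd n
  have hne : n / ∏ p ∈ n.primeFactors, p ≠ 0 := by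
    have h1 := Nat.le_of_dvd hn hrad
    have h2 : 0 < ∏ p ∈ n.primeFactors, p :=
      Finset.prod_pos fun p hp => (Nat.prime_of_mem_primeFactors hp).pos
    exact (Nat.div_pos h1 h2).ne'
  rw [← Nat.factorization_le_iff_dvd hd0 hne, Nat.factorization_div hrad]
  intro p
  rw [Finsupp.tsub_apply, Nat.factorization_prod (fun q hq => (Nat.prime_of_mem_primeFactors hq).ne_zero),
    Finset.sum_apply']
  by_cases hp : p ∈ n.primeFactors
  · have hpp := Nat.prime_of_mem_primeFactors hp
    have hpn := Nat.dvd_of_mem_primeFactors hp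
    rw [Finset.sum_eq_single p (fun q hq hqp => by
      rw [(Nat.prime_of_mem_primeFactors hq).factorization, Finsupp.single_apply, if_neg hqp])
      (fun hne' => absurd hp hne'), hpp.factorization_self]
    have hdp : n / p ≠ 0 := (Nat.div_pos (Nat.le_of_dvd hn hpn) hpp.pos).ne'
    have h2 := (Nat.factorization_le_iff_dvd hd0 hdp).2 (h p hp) p
    rwa [Nat.factorization_div hpn, Finsupp.tsub_apply, hpp.factorization_self] at h2
  · have : d.factorization p = 0 := by
      have h2 := (Nat.factorization_le_iff_dvd hd0 hn.ne').2 hd p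
      have h3 : n.factorization p = 0 :=
        Finsupp.notMem_support_iff.1 (by rwa [Nat.support_factorization])
      omega
    omega

/-- A unit congruent to `1` modulo every prime divisor, of order prime to the modulus, is `1`. -/
theorem dvd_sub_one {m p : ℕ} (hp : p.Prime) (hpm : Nat.Coprime p m) {s : ℤ}
    (hs : (m : ℤ) ∣ s ^ p - 1) (hq : ∀ q : ℕ, q.Prime → q ∣ m → (q : ℤ) ∣ s - 1) :
    (m : ℤ) ∣ s - 1 := by
  have hgs : (∑ i ∈ Finset.range p, s ^ i) * (s - 1) = s ^ p - 1 := geom_sum_mul s p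
  rw [← hgs] at hs
  refine Int.dvd_of_dvd_mul_right_of_gcd_one hs ?_
  by_contra hg
  obtain ⟨q, hqp, hqd⟩ := Nat.exists_prime_and_dvd hg
  have hqm : (q : ℤ) ∣ (m : ℤ) :=
    (Int.natCast_dvd_natCast.2 hqd).trans (Int.gcd_dvd_left _ _)
  have hqS : (q : ℤ) ∣ ∑ i ∈ Finset.range p, s ^ i :=
    (Int.natCast_dvd_natCast.2 hqd).trans (Int.gcd_dvd_right _ _)
  have h1 := hq q hqp (Int.natCast_dvd_natCast.1 hqm)
  haveI := Fact.mk hqp
  rw [← ZMod.intCast_zmod_eq_zero_iff_dvd] at h1 hqS
  push_cast at h1 hqS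
  rw [sub_eq_zero] at h1
  simp only [h1, one_pow, Finset.sum_const, Finset.card_range, nsmul_one] at hqS
  rw [ZMod.natCast_eq_zero_iff] at hqS
  have h2 : q = 1 := Nat.eq_one_of_dvd_coprimes hpm hqS (Int.natCast_dvd_natCast.1 hqm)
  exact hqp.ne_one h2

variable {K : Type*} [Group K] [Finite K] {M : Type*} [AddCommGroup M] [Finite M] [Nontrivial M]

theorem exists_presentation [IsZGroup K] {ρ : K →* AddMonoid.End M} (hρ : IsFree ρ) :
    ∃ n m r : ℕ, 0 < n ∧ 0 < m ∧ Nat.Coprime (r - 1) m ∧ Nat.Coprime n m ∧ 1 ≤ r ∧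
      r ^ (n / ∏ p ∈ n.primeFactors, p) % m = 1 % m ∧
      Nonempty (K ≃* PresentedGroup
        ({FreeGroup.of (0 : Fin 2) ^ n, FreeGroup.of (1 : Fin 2) ^ m,
          (FreeGroup.of (0 : Fin 2))⁻¹ * FreeGroup.of 1 * FreeGroup.of 0 *
            (FreeGroup.of (1 : Fin 2) ^ r)⁻¹} : Set (FreeGroup (Fin 2)))) := by
  set D := commutator K with hD
  obtain ⟨H, hH⟩ := Subgroup.exists_right_complement'_of_coprime
    (IsZGroup.coprime_commutator_index K)
  haveI hDc : IsCyclic D := IsZGroup.isCyclic_commutator K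
  haveI hHc : IsCyclic H := by
    have h1 : Abelianization K ≃* H := hH.symm.QuotientMulEquiv
    exact isCyclic_of_surjective _ h1.surjective
  obtain ⟨y', hy'⟩ := IsCyclic.exists_generator (α := D)
  obtain ⟨x', hx'⟩ := IsCyclic.exists_generator (α := H)
  set y : K := (y' : K) with hy
  set x : K := (x' : K) with hx
  have hDz : D = Subgroup.zpowers y := by
    refine le_antisymm (fun g hg => ?_) (Subgroup.zpowers_le.2 y'.2)
    obtain ⟨k, hk⟩ := Subgroup.mem_zpowers_iff.1 (hy' ⟨g, hg⟩)
    exact Subgroup.mem_zpowers_iff.2 ⟨k, by simpa using congrArg Subtype.val hk⟩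
  have hHz : H = Subgroup.zpowers x := by
    refine le_antisymm (fun g hg => ?_) (Subgroup.zpowers_le.2 x'.2)
    obtain ⟨k, hk⟩ := Subgroup.mem_zpowers_iff.1 (hx' ⟨g, hg⟩)
    exact Subgroup.mem_zpowers_iff.2 ⟨k, by simpa using congrArg Subtype.val hk⟩
  set n := orderOf x with hn
  set m := orderOf y with hm
  have hn0 : 0 < n := orderOf_pos x
  have hm0 : 0 < m := orderOf_pos y
  have hcardH : Nat.card H = n := by rw [hHz, Nat.card_zpowers]
  have hcardD : Nat.card D = m := by rw [hDz, Nat.card_zpowers]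
  have hcard : Nat.card K = m * n := by
    rw [← hH.card_mul, hcardD, hcardH]
  have hcop : Nat.Coprime n m := by
    have h := IsZGroup.coprime_commutator_index K
    rw [← hD, hH.symm.index_eq_card, hcardD, hcardH] at h
    exact h.symm
  -- the exponent
  obtain ⟨r, hr1, hr⟩ : ∃ r : ℕ, 1 ≤ r ∧ x⁻¹ * y * x = y ^ r := by
    have hmem : x⁻¹ * y * x ∈ Subgroup.zpowers y := by
      rw [← hDz]
      have := Subgroup.Normal.conj_mem (inferInstance : D.Normal) y y'.2 x⁻¹
      rwa [inv_inv] at this
    rw [← mem_powers_iff_mem_zpowers] at hmem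
    obtain ⟨k, hk⟩ := hmem
    refine ⟨k + m, by omega, ?_⟩
    rw [pow_add, pow_orderOf_eq_one, mul_one]
    exact hk.symm
  have hconj : ∀ j : ℕ, x⁻¹ * y ^ j * x = y ^ (r * j) := by
    intro j
    have := conj_pow (i := j) (a := x⁻¹) (b := y)
    rw [inv_inv] at this
    rw [← this, hr, ← pow_mul]
  have hconjk : ∀ k : ℕ, (x ^ k)⁻¹ * y * x ^ k = y ^ r ^ k := by
    intro k
    induction k with
    | zero => simp
    | succ k ih =>
      rw [pow_succ, show (x ^ k * x)⁻¹ * y * (x ^ k * x) = x⁻¹ * ((x ^ k)⁻¹ * y * x ^ k) * x by group,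
        ih, hconj, pow_succ' r k]
  -- `r - 1` is prime to `m`
  have hr1m : Nat.Coprime (r - 1) m := by
    set L := Subgroup.zpowers (y ^ (r - 1)) with hL
    have hyr : ∀ g ∈ Subgroup.zpowers y, Commute g (y ^ (r - 1)) := by
      intro g hg
      obtain ⟨k, rfl⟩ := Subgroup.mem_zpowers_iff.1 hg
      exact ((Commute.refl y).pow_right _).zpow_left k
    have hxL : x⁻¹ * y ^ (r - 1) * x ∈ L := by
      rw [hconj, mul_comm, pow_mul]
      exact pow_mem (Subgroup.mem_zpowers _) r
    have hgen : Subgroup.closure {x, y} = ⊤ := by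
      rw [eq_top_iff, ← hH.sup_eq_top]
      show D ⊔ H ≤ _
      refine sup_le ?_ ?_
      · rw [hDz, Subgroup.zpowers_le]; exact Subgroup.subset_closure (by simp)
      · rw [hHz, Subgroup.zpowers_le]; exact Subgroup.subset_closure (by simp)
    haveI : L.Normal := by
      have h : ∀ g : K, ∀ l ∈ L, g⁻¹ * l * g ∈ L := by
        intro g
        have hg : g ∈ Submonoid.closure ({x, y} : Set K) := by
          rw [← Subgroup.closure_toSubmonoid_of_finite, hgen]; trivial
        induction hg using Submonoid.closure_induction with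
        | mem z hz =>
          intro l hl
          obtain ⟨k, rfl⟩ := Subgroup.mem_zpowers_iff.1 hl
          have : z⁻¹ * (y ^ (r - 1)) ^ k * z = (z⁻¹ * y ^ (r - 1) * z) ^ k := by
            have := conj_zpow (i := k) (a := z⁻¹) (b := y ^ (r - 1))
            rw [inv_inv] at this
            exact this.symm
          rw [this]
          refine zpow_mem ?_ k
          rcases hz with rfl | rfl
          · exact hxL
          · rw [mul_assoc, ← (hyr _ (Subgroup.mem_zpowers y)).eq, inv_mul_cancel_left]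
            exact Subgroup.mem_zpowers _
        | one => intro l hl; simpa using hl
        | mul a b _ _ ha hb =>
          intro l hl
          rw [show (a * b)⁻¹ * l * (a * b) = b⁻¹ * (a⁻¹ * l * a) * b by group]
          exact hb _ (ha l hl)
      exact ⟨fun l hl g => by have := h g⁻¹ l hl; rwa [inv_inv] at this⟩
    have hcomm : ∀ a b : K ⧸ L, a * b = b * a := by
      intro a b
      obtain ⟨a, rfl⟩ := QuotientGroup.mk_surjective a
      obtain ⟨b, rfl⟩ := QuotientGroup.mk_surjective b
      have hxy : Commute (x : K ⧸ L) (y : K ⧸ L) := by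
        show ((x * y : K) : K ⧸ L) = ((y * x : K) : K ⧸ L)
        rw [QuotientGroup.eq]
        have : (x * y)⁻¹ * (y * x) = y ^ (r - 1) := by
          rw [show (x * y)⁻¹ * (y * x) = y⁻¹ * (x⁻¹ * y * x) by group, hr,
            show y⁻¹ * y ^ r = y ^ (r - 1) by
              obtain ⟨k, rfl⟩ : ∃ k, r = k + 1 := ⟨r - 1, by omega⟩
              rw [pow_succ', inv_mul_cancel_left, Nat.add_sub_cancel]]
        rw [this]; exact Subgroup.mem_zpowers _
      have hall : ∀ a : K, Commute (a : K ⧸ L) x ∧ Commute (a : K ⧸ L) y := by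
        intro a
        have hg : a ∈ Submonoid.closure ({x, y} : Set K) := by
          rw [← Subgroup.closure_toSubmonoid_of_finite, hgen]; trivial
        induction hg using Submonoid.closure_induction with
        | mem z hz =>
          rcases hz with rfl | rfl
          · exact ⟨Commute.refl _, hxy⟩
          · exact ⟨hxy.symm, Commute.refl _⟩
        | one => exact ⟨Commute.one_left _, Commute.one_left _⟩
        | mul a b _ _ ha hb => exact ⟨ha.1.mul_left hb.1, ha.2.mul_left hb.2⟩
      have hg : b ∈ Submonoid.closure ({x, y} : Set K) := by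
        rw [← Subgroup.closure_toSubmonoid_of_finite, hgen]; trivial
      have : Commute (a : K ⧸ L) (b : K ⧸ L) := by
        induction hg using Submonoid.closure_induction with
        | mem z hz =>
          rcases hz with rfl | rfl
          · exact (hall a).1
          · exact (hall a).2
        | one => exact Commute.one_right _
        | mul u w _ _ hu hw => exact hu.mul_right hw
      exact this.eq
    have hle : D ≤ L := by
      rw [hD, commutator_def, Subgroup.commutator_le]
      intro a _ b _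
      rw [← QuotientGroup.eq_one_iff, commutatorElement_def, QuotientGroup.mk_mul,
        QuotientGroup.mk_mul, QuotientGroup.mk_mul, QuotientGroup.mk_inv, QuotientGroup.mk_inv,
        hcomm (a : K ⧸ L) b]
      group
    have h1 := Nat.le_of_dvd Nat.card_pos (Subgroup.card_dvd_of_le hle)
    rw [hcardD, hL, Nat.card_zpowers, orderOf_pow, ← hm] at h1
    have hg1 : Nat.gcd m (r - 1) = 1 := by
      by_contra hne
      have hpos : 0 < Nat.gcd m (r - 1) := Nat.gcd_pos_of_pos_left _ hm0
      have := Nat.div_lt_self hm0 (show 1 < Nat.gcd m (r - 1) by omega)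
      omega
    exact Nat.Coprime.symm hg1
  -- powers of `x` centralising `y`
  have hcent : ∀ p ∈ n.primeFactors, Commute (x ^ (n / p)) y := by
    intro p hp
    have hpp := Nat.prime_of_mem_primeFactors hp
    have hpn := Nat.dvd_of_mem_primeFactors hp
    haveI := Fact.mk hpp
    set z := x ^ (n / p) with hz
    have hzo : orderOf z = p := by
      rw [hz, orderOf_pow, ← hn, Nat.gcd_eq_right (Nat.div_dvd_of_dvd hpn),
        Nat.div_div_self hpn hn0.ne']
    obtain ⟨s, hs⟩ : ∃ s : ℤ, z * y * z⁻¹ = y ^ s := by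
      have : z * y * z⁻¹ ∈ Subgroup.zpowers y := by
        rw [← hDz]; exact Subgroup.Normal.conj_mem (inferInstance : D.Normal) y y'.2 z
      obtain ⟨s, hs⟩ := Subgroup.mem_zpowers_iff.1 this
      exact ⟨s, hs.symm⟩
    have hsk : ∀ k : ℕ, z ^ k * y * (z ^ k)⁻¹ = y ^ s ^ k := by
      intro k
      induction k with
      | zero => simp
      | succ k ih =>
        rw [pow_succ', show z * z ^ k * y * (z * z ^ k)⁻¹ = z * (z ^ k * y * (z ^ k)⁻¹) * z⁻¹ by group,
          ih, ← conj_zpow, hs, ← zpow_mul, pow_succ' s k]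
    have hdvd : (m : ℤ) ∣ s ^ p - 1 := by
      have h := hsk p
      rw [← hzo, pow_orderOf_eq_one, one_mul, inv_one, mul_one, hzo] at h
      rw [hm, orderOf_dvd_iff_zpow_eq_one, zpow_sub, ← h, zpow_one, mul_inv_cancel]
    have hsm : (m : ℤ) ∣ s - 1 := by
      refine dvd_sub_one hpp ?_ hdvd fun q hq hqm => ?_
      · exact Nat.Coprime.coprime_dvd_left hpn hcop
      · haveI := Fact.mk hq
        set w := y ^ (m / q) with hw
        have hwo : orderOf w = q := by
          rw [hw, orderOf_pow, ← hm, Nat.gcd_eq_right (Nat.div_dvd_of_dvd hqm),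
            Nat.div_div_self hqm hm0.ne']
        have hzw : z * w * z⁻¹ = w ^ s := by
          rw [hw, ← conj_pow, hs, ← zpow_natCast, ← zpow_mul, ← zpow_natCast, ← zpow_mul, mul_comm]
        have hc := commute_of_free hρ hzo hwo (hzw ▸ zpow_mem (Subgroup.mem_zpowers w) s)
        rw [hc.eq, mul_inv_cancel_right] at hzw
        rw [← hwo, orderOf_dvd_iff_zpow_eq_one, zpow_sub, ← hzw, zpow_one, mul_inv_cancel]
    rw [hm, orderOf_dvd_iff_zpow_eq_one, zpow_sub, zpow_one, mul_inv_eq_one] at hsm
    rw [hsm, mul_inv_eq_iff_eq_mul] at hs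
    exact hs
  -- the least such power
  have hpowe : Commute (x ^ (n / ∏ p ∈ n.primeFactors, p)) y := by
    let C : Subgroup K := Subgroup.centralizer {y}
    classical
    have hex : ∃ k, 0 < k ∧ x ^ k ∈ C := ⟨n, hn0, by rw [hn, pow_orderOf_eq_one]; exact one_mem C⟩
    set d₀ := Nat.find hex with hd₀
    obtain ⟨hdpos, hdC⟩ := Nat.find_spec hex
    have hdvd : ∀ k, x ^ k ∈ C → d₀ ∣ k := by
      intro k hk
      rw [Nat.dvd_iff_mod_eq_zero]
      by_contra hne
      refine Nat.find_min hex (Nat.mod_lt k hdpos) ⟨Nat.pos_of_ne_zero hne, ?_⟩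
      have e : x ^ (k % d₀) = ((x ^ d₀) ^ (k / d₀))⁻¹ * x ^ k := by
        rw [eq_inv_mul_iff_mul_eq, ← pow_mul, ← pow_add, Nat.div_add_mod]
      rw [e]
      exact mul_mem (inv_mem (pow_mem hdC _)) hk
    have := rad_dvd_of_div_dvd hn0 (hdvd n (by rw [hn, pow_orderOf_eq_one]; exact one_mem C))
      fun p hp => hdvd _ (Subgroup.mem_centralizer_singleton_iff.2 (hcent p hp).eq)
    obtain ⟨i, hi⟩ := this
    refine Subgroup.mem_centralizer_singleton_iff.1 ?_
    rw [hi, pow_mul]
    exact pow_mem hdC i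
  refine ⟨n, m, r, hn0, hm0, hr1m, hcop, hr1, ?_, ?_⟩
  · have h := hconjk (n / ∏ p ∈ n.primeFactors, p)
    rw [mul_assoc, ← hpowe.eq, inv_mul_cancel_left] at h
    exact (pow_eq_pow_iff_modEq.1 ((pow_one y).trans h)).symm
  -- the presentation
  set rels : Set (FreeGroup (Fin 2)) := {FreeGroup.of (0 : Fin 2) ^ n, FreeGroup.of (1 : Fin 2) ^ m,
      (FreeGroup.of (0 : Fin 2))⁻¹ * FreeGroup.of 1 * FreeGroup.of 0 *
        (FreeGroup.of (1 : Fin 2) ^ r)⁻¹} with hrels
  have hrel : ∀ w ∈ rels, FreeGroup.lift ![x, y] w = 1 := by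
    rintro w (rfl | rfl | rfl)
    · simp [hn, pow_orderOf_eq_one]
    · simp [hm, pow_orderOf_eq_one]
    · simp [hr]
  let f := PresentedGroup.toGroup hrel
  let X : PresentedGroup rels := PresentedGroup.of 0
  let Y : PresentedGroup rels := PresentedGroup.of 1
  have fX : f X = x := by simp [f, X]
  have fY : f Y = y := by simp [f, Y]
  have hXn : X ^ n = 1 := PresentedGroup.one_of_mem (x := FreeGroup.of (0 : Fin 2) ^ n) (Or.inl rfl)
  have hYm : Y ^ m = 1 :=
    PresentedGroup.one_of_mem (x := FreeGroup.of (1 : Fin 2) ^ m) (Or.inr (Or.inl rfl))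
  have hXY : X⁻¹ * Y * X = Y ^ r := by
    have := PresentedGroup.one_of_mem (rels := rels)
      (x := (FreeGroup.of (0 : Fin 2))⁻¹ * FreeGroup.of 1 * FreeGroup.of 0 *
        (FreeGroup.of (1 : Fin 2) ^ r)⁻¹) (Or.inr (Or.inr rfl))
    rw [map_mul, map_inv (PresentedGroup.mk rels) (FreeGroup.of (1 : Fin 2) ^ r), mul_inv_eq_one] at this
    exact this
  have hXYj : ∀ j : ℕ, Y ^ j * X = X * Y ^ (r * j) := by
    intro j
    have := conj_pow (i := j) (a := X⁻¹) (b := Y)
    rw [inv_inv, hXY, ← pow_mul] at this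
    rw [this]; group
  let F : Fin n × Fin m → PresentedGroup rels := fun ij => X ^ ij.1.val * Y ^ ij.2.val
  have hF : Function.Surjective F := by
    have hnorm : ∀ i j : ℕ, X ^ i * Y ^ j ∈ Set.range F := fun i j =>
      ⟨(⟨i % n, Nat.mod_lt _ hn0⟩, ⟨j % m, Nat.mod_lt _ hm0⟩), by
        simp only [F]; rw [← pow_eq_pow_mod _ hXn, ← pow_eq_pow_mod _ hYm]⟩
    intro g
    have hg : g ∈ Subgroup.closure (Set.range (PresentedGroup.of (rels := rels))) := by
      rw [PresentedGroup.closure_range_of]; trivial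
    induction hg using Subgroup.closure_induction_right with
    | one => exact hnorm 0 0 |> fun h => by simpa using h
    | mul_right w hw z hz ih =>
      obtain ⟨⟨i, j⟩, rfl⟩ := ih
      obtain ⟨a, rfl⟩ := hz
      fin_cases a
      · show F (i, j) * X ∈ Set.range F
        simp only [F]
        rw [mul_assoc, hXYj, ← mul_assoc, ← pow_succ]; exact hnorm _ _
      · show F (i, j) * Y ∈ Set.range F
        simp only [F]
        rw [mul_assoc, ← pow_succ]; exact hnorm _ _
    | mul_inv_cancel w hw z hz ih =>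
      obtain ⟨⟨i, j⟩, rfl⟩ := ih
      obtain ⟨a, rfl⟩ := hz
      fin_cases a
      · show F (i, j) * X⁻¹ ∈ Set.range F
        have hXi : X⁻¹ = X ^ (n - 1) := inv_eq_of_mul_eq_one_right (by
          rw [← pow_succ', Nat.sub_add_cancel hn0, hXn])
        have hXk : ∀ k j : ℕ, Y ^ j * X ^ k = X ^ k * Y ^ (r ^ k * j) := by
          intro k
          induction k with
          | zero => intro j; simp
          | succ k ih =>
            intro j
            rw [pow_succ, ← mul_assoc, ih, mul_assoc, hXYj, ← mul_assoc, pow_succ' r k, mul_assoc r]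
        simp only [F]
        rw [hXi, mul_assoc, hXk, ← mul_assoc, ← pow_add]; exact hnorm _ _
      · show F (i, j) * Y⁻¹ ∈ Set.range F
        have hYi : Y⁻¹ = Y ^ (m - 1) := inv_eq_of_mul_eq_one_right (by
          rw [← pow_succ', Nat.sub_add_cancel hm0, hYm])
        simp only [F]
        rw [hYi, mul_assoc, ← pow_add]; exact hnorm _ _
  haveI : Finite (PresentedGroup rels) := Finite.of_surjective F hF
  have hfs : Function.Surjective f := by
    rw [← MonoidHom.range_eq_top, eq_top_iff, ← hH.sup_eq_top]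
    show D ⊔ H ≤ _
    rw [hDz, hHz]
    exact sup_le (Subgroup.zpowers_le.2 ⟨Y, fY⟩) (Subgroup.zpowers_le.2 ⟨X, fX⟩)
  refine ⟨(MulEquiv.ofBijective f ((Nat.bijective_iff_surjective_and_card f).2
    ⟨hfs, le_antisymm ?_ (Nat.card_le_card_of_surjective f hfs)⟩)).symm⟩
  calc Nat.card (PresentedGroup rels) ≤ Nat.card (Fin n × Fin m) :=
        Nat.card_le_card_of_surjective F hF
    _ = n * m := by rw [Nat.card_prod, Nat.card_fin, Nat.card_fin]
    _ = Nat.card K := by rw [hcard, mul_comm]

end CfsgLib.ZassComp
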